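import Cfsg.Agent.TQ.Big
import Cfsg.Agent.TQ.G1
import Cfsg.Agent.TQ.G7
import Cfsg.Agent.TQ.G11
import Cfsg.Agent.TQ.G13

/-! Simple groups of order `2 ^ a * 3 * 5 * q ^ b` with `q ≥ 5`. -/

set_option autoImplicit false

namespace TQ
open Cfsg H8 H2 Subgroup

variable {G : Type*} [Group G] [Fintype G] [IsSimpleGroup G] {a b q : ℕ}

theorem big (hq : q.Prime) (q5 : 5 ≤ q) (hN : Nat.card G = 2 ^ a * 3 * 5 * q ^ b) : Concl G :=
  big0 hq q5 hN (fun _ h1 h2 h3 h4 => g1 hq q5 h1 h2 h3 h4)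
    (fun h hN => by
      rcases h with rfl | rfl | rfl
      · exact (g7 hN).elim
      · exact g11 (not_comm15 ⟨2 ^ a * 11, by rw [hN]; ring⟩) hN
      · exact (g13b hN).elim)
    fun _ _ _ _ T h => g13 T h

end TQ
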