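import Cfsg.Agent.TQ.Main0
import Cfsg.Agent.TQ.B2f
import Cfsg.Agent.TQ.B3
import Cfsg.Agent.TQ.B4
import Cfsg.Agent.TQ.Psu

/-! Simple groups of order `2 ^ a * 3 * 5 * q ^ b`: the glue for `q = 3`. -/

set_option autoImplicit false
set_option linter.unusedSectionVars false

namespace TQ
open Cfsg H8 H2 Subgroup

variable {G : Type*} [Group G] [Fintype G] [IsSimpleGroup G] {a b c q : ℕ} {r : G}

theorem e4 (bound : ∀ s, N5 a c s → a ≤ 9 ∧ c ≤ 6) (hG : ¬ IsMulCommutative G)
    (hN : Nat.card G = 5 * 2 ^ a * 3 ^ c) (h : DefOne 5 r) (hV : h.V = ⊥)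
    (he : Nat.card h.H = 4) (F : Full h 4) : Concl G := by
  have n := n5 hN hG h hV he F
  rcases b2fin n (bound _ n).1 (bound _ n).2 with ⟨k, l | l⟩ | ⟨k, l | l⟩ <;>
    obtain ⟨rfl, rfl⟩ := Prod.mk.inj k <;> have hF := congrFun l
  · exact psu hN h hV he F hF
  · refine (not_54 hN F hV hF fun j g => ?_).elim
    have d : ∀ i, deg (F.c i) = ![64, 54, 36, 81] i := fun i => by
      have := congrArg Int.natAbs (hF i)
      rw [Int.natAbs_mul, show (F.s i).natAbs = 1 by rcases F.s_eq i with e | e <;> rw [e] <;> rfl,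
        one_mul, Int.natAbs_natCast] at this
      rw [this]; fin_cases i <;> rfl
    obtain ⟨α, hα⟩ := full_int F j fun k hk => by
      rw [d, d] at hk
      revert hk; revert j k; decide
    exact ⟨_, hα g⟩
  · exact (not_576 hN F hV hF).elim
  · exact (not_256 hN F hV hF).elim

theorem main1 (bound : ∀ a c s, N5 a c s → a ≤ 9 ∧ c ≤ 6) (hq : q.Prime)
    (hN : Nat.card G = 2 ^ a * 3 * 5 * q ^ b) (big : 5 ≤ q → Concl G) : Concl G :=
  main0 hq hN (fun c hG hN _ h hV he F => e4 (bound a c) hG hN h hV he F) big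

end TQ
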