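import Cfsg.Agent.TQ.Stmt
import Cfsg.Agent.S3251
import Cfsg.Agent.S1001
import Cfsg.Agent.H2.Psl34

/-! Simple groups of order `5 * 2 ^ a * 3 ^ c`: the case of automizer 2. -/

set_option autoImplicit false
set_option linter.unusedSectionVars false

namespace TQ
open Cfsg H8 H2 Subgroup

variable {G : Type*} [Group G] [Fintype G] [IsSimpleGroup G] {r : G} {a c : ℕ}

theorem card_of_psl {F : Type} [Field F] [Fintype F]
    (e : G ≃* Matrix.ProjectiveSpecialLinearGroup (Fin 2) F) :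
    (Odd (Fintype.card F) → 2 * Nat.card G = Fintype.card F * (Fintype.card F ^ 2 - 1)) ∧
    ∀ n, Fintype.card F = 2 ^ n → Nat.card G = Fintype.card F * (Fintype.card F ^ 2 - 1) :=
  ⟨fun h => Nat.card_congr e.toEquiv ▸ GW.card_psl h,
    fun _ h => Nat.card_congr e.toEquiv ▸ W.card_psl_even h⟩

theorem not_dvd_N (hN : Nat.card G = 5 * 2 ^ a * 3 ^ c) {q : ℕ} (hq : q.Prime) (h5 : 5 < q) :
    ¬ q ∣ Nat.card G := fun h => by
  rw [hN] at h
  rcases (Nat.Prime.dvd_mul hq).1 h with h | h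
  · rcases (Nat.Prime.dvd_mul hq).1 h with h | h
    · have := Nat.le_of_dvd (by norm_num) h; omega
    · have := Nat.le_of_dvd (by norm_num) (hq.dvd_of_dvd_pow h); omega
  · have := Nat.le_of_dvd (by norm_num) (hq.dvd_of_dvd_pow h); omega

/-- the Sylow 5-subgroup is self-centralizing -/
theorem v5_bot (hN : Nat.card G = 5 * 2 ^ a * 3 ^ c) (h : DefOne 5 r) : h.V = ⊥ := by
  have e := Cfsg.Agent.S1001.result (G := G) 5 c a (by norm_num) (by rw [hN]; ring) r h.ord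
  have k := h.card_Cx
  rw [show Cx r = zpowers r from e, h.card_zpowers] at k
  exact card_eq_one.1 (by omega)

theorem ex5 (hN : Nat.card G = 5 * 2 ^ a * 3 ^ c) : ∃ r : G, DefOne 5 r :=
  exists_defOne (m := 2 ^ a * 3 ^ c) (by rw [hN, mul_assoc]) fun h => by
    rcases (Nat.Prime.dvd_mul (by norm_num)).1 h with h | h <;>
      exact absurd (Nat.prime_five.dvd_of_dvd_pow h) (by norm_num)

/-- the case of automizer 2 -/
theorem b1 (hG : ¬ IsMulCommutative G) (hN : Nat.card G = 5 * 2 ^ a * 3 ^ c) (h : DefOne 5 r)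
    (he : Nat.card h.H = 2) : Concl G := by
  have hord : Nat.card G = 2 ^ a * 3 ^ c * 5 ^ 0 * 7 ^ 0 * 5 := by rw [hN]; ring
  obtain ⟨x, y, w, k, s, t, α, D⟩ := IX.exists_dt' hG h (v5_bot hN h) he le_rfl
  obtain ⟨a', b', c', d', hk⟩ := D.k_smooth hord
  have n7 := not_dvd_N hN (q := 7) (by norm_num) (by norm_num)
  have n13 := not_dvd_N hN (q := 13) (by norm_num) (by norm_num)
  have n17 := not_dvd_N hN (q := 17) (by norm_num) (by norm_num)
  have n41 := not_dvd_N hN (q := 41) (by norm_num) (by norm_num)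
  rcases D.split hG (D.num (D.min_mem hord) hk) with ⟨F, _, _, q, ⟨e⟩⟩ | ⟨F, _, _, q, ⟨e⟩⟩ |
    ⟨F, _, _, q, ⟨e⟩⟩ | ⟨F, _, _, q, ⟨e⟩⟩ | ⟨F, _, _, q, ⟨e⟩⟩ | ⟨F, _, _, q, ⟨e⟩⟩ |
    ⟨F, _, _, q, ⟨e⟩⟩ | ⟨F, _, _, q, ⟨e⟩⟩ | ⟨F, _, _, q, ⟨e⟩⟩ | ⟨F, _, _, q, ⟨e⟩⟩
  · exact .inl ⟨F, _, _, .inl q, ⟨e⟩⟩
  · have := (card_of_psl e).1 (by rw [q]; decide); rw [q] at this; omega
  · exact .inl ⟨F, _, _, .inr (.inl q), ⟨e⟩⟩
  · have := (card_of_psl e).2 3 q; rw [q] at this; omega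
  · have := (card_of_psl e).2 4 q; rw [q] at this; omega
  · have := (card_of_psl e).1 (by rw [q]; decide); rw [q] at this; omega
  · have := (card_of_psl e).1 (by rw [q]; decide); rw [q] at this; omega
  · have := (card_of_psl e).1 (by rw [q]; decide); rw [q] at this; omega
  · have := (card_of_psl e).1 (by rw [q]; decide); rw [q] at this; omega
  · have := (Nat.card_congr e.toEquiv).trans (psl34_simple F q).2
    omega

/-- reduction of the case `q = 3` to automizer 4 -/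
theorem q3 (hG : ¬ IsMulCommutative G) (hN : Nat.card G = 5 * 2 ^ a * 3 ^ c)
    (H : ∀ (r : G) (h : DefOne 5 r), h.V = ⊥ → Nat.card h.H = 4 → Full h 4 → Concl G) :
    Concl G := by
  obtain ⟨r, h⟩ := ex5 hN
  have h1 := h.one_lt_card_H (commutator_eq_top_of_simple hG)
  have h2 : Nat.card h.H ∣ 4 := h.card_H_dvd
  have h3 := Nat.le_of_dvd (by norm_num) h2
  by_cases e : Nat.card h.H = 4
  · obtain ⟨F⟩ := exists_full h (n := 4) rfl e
    exact H r h (v5_bot hN h) e F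
  · refine b1 hG hN h ?_
    generalize Nat.card h.H = n at *
    interval_cases n <;> omega

end TQ
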