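import Mathlib

/-! Two exponential equations. -/

set_option autoImplicit false

namespace TQ
namespace B2e

theorem per (a M L x : ℕ) (h : a ^ L % M = 1 % M) : a ^ x % M = a ^ (x % L) % M := by
  have h1 : a ^ L ≡ 1 [MOD M] := h
  have h2 := (h1.pow (x / L)).mul_right (a ^ (x % L))
  rwa [← pow_mul, ← pow_add, Nat.div_add_mod, one_pow, one_mul] at h2

theorem big (a j x : ℕ) (h : j ≤ x) : a ^ x % a ^ j = 0 :=
  Nat.mod_eq_zero_of_dvd (pow_dvd_pow a h)

set_option synthInstance.maxSize 2048 in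
set_option synthInstance.maxHeartbeats 200000 in
theorem chkA : ∀ n < 8, n % 4 = 1 → ∀ k < 16, k % 4 = 2 → ∀ m < 16, m % 4 = 1 →
    (3 ^ k % 64 + 8 * (3 ^ m % 64)) % 64 = 1 →
    (1 + 2 ^ n % 17) % 17 ≠ (3 ^ k % 17 + 8 * (3 ^ m % 17)) % 17 := by decide +kernel

theorem chkE : ∀ k < 256, 3 ^ k % 1024 = 217 → ∀ n < 16, n % 4 = 1 →
    (217 + 2 ^ n % 257) % 257 ≠ 3 ^ k % 257 := by decide +kernel

theorem chkN : ∀ n < 324, n % 4 = 1 → (1 + 2 ^ n % 243) % 243 = 0 → n = 81 := by decide +kernel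

set_option synthInstance.maxSize 2048 in
set_option synthInstance.maxHeartbeats 200000 in
theorem chkF : ∀ k < 324, k % 4 = 2 → ∀ m < 324, m % 4 = 3 →
    (1 + 2 ^ 81 % 19 + 8 * (3 ^ m % 19)) % 19 = 3 ^ k % 19 →
    (1 + 2 ^ 81 % 163 + 8 * (3 ^ m % 163)) % 163 ≠ 3 ^ k % 163 := by decide +kernel

theorem md {x y z : ℕ} (M : ℕ) (h : 1 + x + 8 * y = z) :
    (1 + x % M + 8 * (y % M)) % M = z % M :=
  h ▸ ((Nat.mod_modEq x M).add_left 1).add ((Nat.mod_modEq y M).mul_left 8)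

theorem m243 {x y z : ℕ} (h : 1 + x + 8 * y = z) (h1 : y % 243 = 0) (h2 : z % 243 = 0) :
    (1 + x % 243) % 243 = 0 := by omega

end B2e
open B2e

theorem eqA (n k m : ℕ) (h9 : 9 ≤ n) (hn : n % 4 = 1) (hk : k % 4 = 2) (hm : m % 4 = 1) :
    1 + 2 ^ n ≠ 3 ^ k + 8 * 3 ^ m := fun h => by
  have a1 := per 3 64 16 k (by decide +kernel)
  have a2 := per 3 64 16 m (by decide +kernel)
  have a3 := per 3 17 16 k (by decide +kernel)
  have a4 := per 3 17 16 m (by decide +kernel)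
  have a5 := per 2 17 8 n (by decide +kernel)
  have a6 : 2 ^ n % 64 = 0 := big 2 6 n (by omega)
  refine chkA (n % 8) (by omega) (by omega) (k % 16) (by omega) (by omega) (m % 16) (by omega)
    (by omega) ?_ ?_
  · rw [← a1, ← a2]; omega
  · rw [← a3, ← a4, ← a5]; omega

theorem eqE (n k m : ℕ) (h9 : 13 ≤ n) (hn : n % 4 = 1) (hk : k % 4 = 2) (hm : m % 4 = 3) :
    1 + 2 ^ n + 8 * 3 ^ m ≠ 3 ^ k := fun h => by
  rcases (by omega : m = 3 ∨ 5 ≤ m) with rfl | h5
  · have a1 := per 3 1024 256 k (by decide +kernel)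
    have a2 := per 3 257 256 k (by decide +kernel)
    have a3 := per 2 257 16 n (by decide +kernel)
    have a4 : 2 ^ n % 1024 = 0 := big 2 10 n (by omega)
    refine chkE (k % 256) (by omega) ?_ (n % 16) (by omega) (by omega) ?_
    · rw [← a1]; omega
    · rw [← a2, ← a3]; omega
  have k1 : k % 324 < 324 := by omega
  have k2 : k % 324 % 4 = 2 := by omega
  have m1 : m % 324 < 324 := by omega
  have m2 : m % 324 % 4 = 3 := by omega
  have n1 : n % 324 < 324 := by omega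
  have n2 : n % 324 % 4 = 1 := by omega
  have k5 : 5 ≤ k := by
    have : 3 ^ m < 3 ^ k := by
      rw [← h]; generalize 2 ^ n = x; generalize 3 ^ m = y; omega
    have := (Nat.pow_lt_pow_iff_right (by norm_num)).1 this
    omega
  have b1 : 3 ^ m % 243 = 0 := big 3 5 m h5
  have b2 : 3 ^ k % 243 = 0 := big 3 5 k k5
  have b3 := per 2 243 324 n (by decide +kernel)
  have e := chkN (n % 324) n1 n2 (by rw [← b3]; exact m243 h b1 b2)
  have a1 := per 3 19 324 k (by decide +kernel)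
  have a2 := per 3 19 324 m (by decide +kernel)
  have a3 := per 3 163 324 k (by decide +kernel)
  have a4 := per 3 163 324 m (by decide +kernel)
  have a5 := per 2 19 324 n (by decide +kernel)
  have a6 := per 2 163 324 n (by decide +kernel)
  rw [e] at a5 a6
  refine chkF (k % 324) k1 k2 (m % 324) m1 m2 ?_ ?_
  · rw [← a1, ← a2, ← a5]; exact md 19 h
  · rw [← a3, ← a4, ← a6]; exact md 163 h

end TQ
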