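import Mathlib

/-! An exponential equation. -/

set_option autoImplicit false

namespace TQ

theorem p1_red {a M b c : ℕ} (h : a ^ (b + c) % M = a ^ b % M) {n : ℕ} (hn : b ≤ n) :
    a ^ n ≡ a ^ (b + (n - b) % c) [MOD M] := by
  obtain ⟨d, rfl⟩ := Nat.exists_eq_add_of_le hn
  rw [Nat.add_sub_cancel_left]
  conv_lhs => rw [← Nat.mod_add_div d c]
  generalize d / c = q
  induction q with
  | zero => simp [Nat.ModEq]
  | succ q ih =>
    refine Nat.ModEq.trans ?_ ih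
    rw [show b + (d % c + c * (q + 1)) = (b + c) + (d % c + c * q) by ring, pow_add,
      pow_add a b (d % c + c * q)]
    exact Nat.ModEq.mul_right _ h

theorem p1_chk : ∀ i ∈ [2, 6, 10, 14, 18, 22, 26, 30, 34], ∀ k ∈ [4, 8, 12], ∀ m ∈ [1, 5, 9, 13],
    ∀ l ∈ [1, 5, 9, 13], (1 + 3 ^ k + 2 * 3 ^ m) % 13797 = (2 ^ i + 8 * 3 ^ l) % 13797 →
      m = 1 ∧ l = 1 := by decide +kernel

theorem p1_three {m : ℕ} (hm : m % 4 = 1) :
    ∃ m' ∈ [1, 5, 9, 13], 3 ^ m ≡ 3 ^ m' [MOD 13797] ∧ (m' = 1 → m = 1) := by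
  by_cases h : m = 1
  · exact ⟨1, by simp, by rw [h], fun _ => h⟩
  · exact ⟨_, by simp; omega, p1_red (b := 5) (c := 12) (by norm_num) (by omega), by omega⟩

theorem eqP1 (i k m l : ℕ) (hi : 10 ≤ i) (i4 : i % 4 = 2) (k4 : k % 4 = 0) (m4 : m % 4 = 1)
    (l4 : l % 4 = 1) (mk : m ≤ k) (_lk : l ≤ k) : 1 + 3 ^ k + 2 * 3 ^ m ≠ 2 ^ i + 8 * 3 ^ l := by
  intro e
  obtain ⟨m', m1, m2, m3⟩ := p1_three m4
  obtain ⟨l', l1, l2, l3⟩ := p1_three l4
  have e1 := p1_red (a := 2) (M := 13797) (b := 0) (c := 36) (by norm_num) i.zero_le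
  have e2 := p1_red (a := 3) (M := 13797) (b := 4) (c := 12) (by norm_num) (n := k) (by omega)
  obtain ⟨a, b⟩ := p1_chk _ (by simp; omega) _ (by simp; omega) _ m1 _ l1
    ((((Nat.ModEq.refl 1).add e2).add (m2.mul_left 2)).symm.trans
      (e ▸ e1.add (l2.mul_left 8)))
  rw [m3 a, l3 b, show k = 2 * (k / 2) by omega, show i = 2 * (i / 2) by omega, pow_mul',
    pow_mul'] at e
  have : 2 ^ 5 ≤ 2 ^ (i / 2) := Nat.pow_le_pow_right two_pos (by omega)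
  generalize 3 ^ (k / 2) = x at e
  generalize 2 ^ (i / 2) = y at e this
  have : y < x := by nlinarith
  nlinarith

end TQ
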