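import Cfsg.Agent.TQ.G0
import Cfsg.Agent.S0997
import Cfsg.Agent.S0998
import Cfsg.Agent.GW.Cv1
import Cfsg.Agent.W.Cor

/-! Simple groups of order `2 ^ a * 3 * 5 * q ^ b` with `q ≥ 5`: the reduction. -/

set_option autoImplicit false
set_option linter.unusedSectionVars false

namespace TQ
open Cfsg H8 H2 Subgroup

variable {G : Type*} [Group G] [Fintype G] [IsSimpleGroup G] {a b q : ℕ}

theorem not_comm15 (h : 15 ∣ Nat.card G) : ¬ IsMulCommutative G := fun hc => by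
  have hp : (Nat.card G).Prime := by
    let _ : CommGroup G := { (inferInstance : Group G) with mul_comm := hc.is_comm.comm }
    exact IsSimpleGroup.prime_card
  rcases (Nat.dvd_prime hp).1 (dvd_trans (by norm_num : 3 ∣ 15) h) with e | e
  · omega
  · rw [← e] at h; omega

theorem not_cyc15 (h : 15 ∣ Nat.card G) : ¬ IsCyclic G := fun hc =>
  not_comm15 h hc.isMulCommutative

theorem odd_part {k l i j : ℕ} (hk : Odd k) (hl : Odd l) (h : k * 2 ^ i = l * 2 ^ j) : k = l :=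
  Nat.dvd_antisymm
    ((Nat.Coprime.pow_right j (Nat.coprime_two_right.2 hk)).dvd_of_dvd_mul_right ⟨_, h.symm⟩)
    ((Nat.Coprime.pow_right i (Nat.coprime_two_right.2 hl)).dvd_of_dvd_mul_right ⟨_, h⟩)

theorem big_b0 (hN : Nat.card G = 2 ^ a * 3 * 5) : Concl G := by
  rcases Cfsg.Agent.S0998.result (G := G) (not_cyc15 ⟨2 ^ a, by rw [hN]; ring⟩) 3 2 5 a
    Nat.prime_three Nat.prime_two Nat.prime_five (by norm_num) (by norm_num) (by norm_num)
    (by rw [hN]; ring) with ⟨F, _, _, hF, e⟩ | ⟨F, _, _, hF, ⟨e⟩⟩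
  · exact .inl ⟨F, _, _, .inl hF, e⟩
  · have := GW.card_psl (F := F) (by rw [hF]; decide)
    rw [hF, ← Nat.card_congr e.toEquiv, hN] at this
    omega

theorem big_b1 (hq : q.Prime) (q17 : 17 ≤ q) (hN : Nat.card G = 2 ^ a * 3 * 5 * q) : Concl G := by
  rcases Cfsg.Agent.S0997.result (G := G) (not_cyc15 ⟨2 ^ a * q, by rw [hN]; ring⟩) q 2 a 15
    hq Nat.prime_two (by omega) (by rw [hN]; ring) (by omega) with
    ⟨m, F, _, _, hF, hm, ⟨e⟩⟩ | ⟨m, F, _, _, hF, hm, -, ⟨e⟩⟩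
  · have h := GW.card_psl (F := F) (by rw [hF]; exact hq.odd_of_ne_two (by omega))
    rw [hF, ← Nat.card_congr e.toEquiv, hN, show 2 * (2 ^ a * 3 * 5 * q) = q * (15 * 2 ^ (a + 1))
      by ring] at h
    have h1 := Nat.eq_of_mul_eq_mul_left hq.pos h
    obtain ⟨k, rfl⟩ : ∃ k, m = k + 2 := by
      refine ⟨m - 2, ?_⟩
      by_contra hc
      have : m = 0 ∨ m = 1 := by omega
      rcases this with rfl | rfl <;> omega
    have p0 : 0 < 2 ^ k := by positivity
    rcases hm with hm | hm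
    · have := odd_part (k := 15) (l := 2 * 2 ^ k + 1) (i := a + 1) (j := k + 3) (by decide)
        (odd_two_mul_add_one _) (by
          rw [h1, hm]; refine Nat.sub_eq_of_eq_add ?_; ring)
      have h7 : 7 ∣ 2 ^ k := ⟨1, by omega⟩
      exact absurd ((by norm_num : Nat.Prime 7).dvd_of_dvd_pow h7) (by norm_num)
    · obtain ⟨y, hy⟩ : ∃ y, 2 ^ k = y + 1 := ⟨2 ^ k - 1, by omega⟩
      have e1 : q = 4 * y + 3 := by rw [hm, pow_add, hy]; omega
      have := odd_part (k := 15) (l := 2 * y + 1) (i := a + 1) (j := k + 3) (by decide)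
        (odd_two_mul_add_one _) (by
          rw [h1, e1, pow_add, hy]; refine Nat.sub_eq_of_eq_add ?_; ring)
      exact .inl ⟨F, _, _, by omega, ⟨e⟩⟩
  · have h := W.card_psl_even (F := F) hF
    obtain ⟨k, rfl⟩ : ∃ k, m = k + 1 := ⟨m - 1, by rcases m with _ | m <;> omega⟩
    have p0 : 0 < 2 ^ k := by positivity
    obtain ⟨y, hy⟩ : ∃ y, 2 ^ k = y + 1 := ⟨2 ^ k - 1, by omega⟩
    have e1 : q = 2 * y + 3 := by rw [hm, pow_succ, hy]; omega
    have e2 : (2 ^ (k + 1)) ^ 2 - 1 = q * (2 * y + 1) := by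
      rw [e1, pow_succ 2 k, hy]; refine Nat.sub_eq_of_eq_add ?_; ring
    rw [hF, ← Nat.card_congr e.toEquiv, hN, e2, show 2 ^ a * 3 * 5 * q = q * (15 * 2 ^ a) by ring,
      show 2 ^ (k + 1) * (q * (2 * y + 1)) = q * ((2 * y + 1) * 2 ^ (k + 1)) by ring] at h
    have := odd_part (by decide) (odd_two_mul_add_one _) (Nat.eq_of_mul_eq_mul_left hq.pos h)
    exact .inl ⟨F, _, _, by rw [hF, pow_succ, hy]; omega, ⟨e⟩⟩

theorem big0 (hq : q.Prime) (q5 : 5 ≤ q) (hN : Nat.card G = 2 ^ a * 3 * 5 * q ^ b)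
    (g1 : ∀ n : ℕ, n ∣ 2 ^ a * 5 * q ^ b → n + 1 ∣ 2 ^ a * 5 * q ^ b → n % 3 = 1 → 2 ≤ n →
      n = 4 ∨ n = q ∨ n + 1 = q ∨ (n = 64 ∧ q = 13))
    (g3 : q = 7 ∨ q = 11 ∨ q = 13 → Nat.card G = 2 ^ a * 3 * 5 * q → Concl G)
    (g13 : ∀ (x : G) (h : DefOne 3 x) (F : Full h 2) (α : G → ℤ), T3 h F 64 α →
      169 ∣ Nat.card G → False) : Concl G := by
  have hG : ¬ IsMulCommutative G := not_comm15 ⟨2 ^ a * q ^ b, by rw [hN]; ring⟩
  have hN' : Nat.card G = 3 * (2 ^ a * 5 * q ^ b) := by rw [hN]; ring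
  have h3 : ¬ 3 ∣ 2 ^ a * 5 * q ^ b := fun h => by
    rcases (Nat.prime_three.dvd_mul).1 h with h | h
    · rcases (Nat.prime_three.dvd_mul).1 h with h | h
      · exact absurd (Nat.prime_three.dvd_of_dvd_pow h) (by norm_num)
      · omega
    · have := (Nat.prime_dvd_prime_iff_eq Nat.prime_three hq).1 (Nat.prime_three.dvd_of_dvd_pow h)
      omega
  obtain ⟨x, h, F, n, α, T⟩ := exists_t3 hG hN' h3
  have ix : (Cx x).index ∣ 2 ^ a * 5 * q ^ b := by
    rw [h.index_Cx, ← (loc_num hG h hN').1]; exact dvd_mul_right _ _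
  have s2 : n ≤ q → ¬ q ^ 2 ∣ Nat.card G := fun hn =>
    schur2 hG (F.ne_one 1) T.val hq (by omega) (T.d1 ▸ hn)
  have fin : ¬ q ^ 2 ∣ Nat.card G → Concl G := fun h2 => by
    obtain rfl | rfl : b = 0 ∨ b = 1 := by
      by_contra hc
      exact h2 (hN ▸ Dvd.dvd.mul_left (pow_dvd_pow q (by omega)) _)
    · exact big_b0 (a := a) (by rw [hN]; ring)
    rw [pow_one] at hN
    by_cases q17 : 17 ≤ q
    · exact big_b1 hq q17 hN
    by_cases e5 : q = 5
    · exact absurd ⟨2 ^ a * 3, by rw [hN, e5]; ring⟩ h2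
    refine g3 ?_ hN
    have q16 : q ≤ 16 := by omega
    interval_cases q <;> first | omega | exact absurd hq (by norm_num)
  rcases g1 n (T.d1 ▸ (F.dvd 1).trans ix) (T.d0 ▸ (F.dvd 0).trans ix) T.n3 T.n2 with
    e | e | e | ⟨rfl, rfl⟩
  · exact fin (s2 (by omega))
  · exact fin (s2 (by omega))
  · exact fin (s2 (by omega))
  · exact fin (g13 x h F α T)

end TQ
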