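import Mathlib

/-! Four exponential equations in the primes 2 and 3. -/

set_option autoImplicit false
set_option synthInstance.maxSize 2000
set_option synthInstance.maxHeartbeats 200000
set_option exponentiation.threshold 300

namespace TQ.Eqn

theorem pw (a M L : ℕ) (h : a ^ L % M = 1 % M) (e : ℕ) : a ^ e % M = a ^ (e % L) % M := by
  conv_lhs => rw [← Nat.div_add_mod e L, pow_add, pow_mul]
  have : (a ^ L) ^ (e / L) * a ^ (e % L) ≡ 1 ^ (e / L) * a ^ (e % L) [MOD M] :=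
    (Nat.ModEq.pow _ h).mul_right _
  rwa [one_pow, one_mul] at this

theorem big (a s : ℕ) {e : ℕ} (h : s ≤ e) : a ^ e % a ^ s = 0 :=
  Nat.mod_eq_zero_of_dvd (pow_dvd_pow a h)

theorem inj3 {k l : ℕ} (h : 3 ^ k = 3 ^ l) : k = l := Nat.pow_right_injective (by norm_num) h

theorem cE : ∀ k < 256, k % 4 = 2 → ∀ n < 256, n % 4 = 3 → (1 + 8 * (3 ^ n % 1024)) % 1024 =
    3 ^ k % 1024 → ∀ e < 16, e % 4 = 1 →
    (1 + 2 ^ e % 4369 + 8 * (3 ^ n % 4369)) % 4369 ≠ 3 ^ k % 4369 := by decide +kernel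

theorem cF : ∀ k < 16, k % 4 = 2 → ∀ n < 16, n % 4 = 1 → (3 ^ k % 64 + 8 * (3 ^ n % 64)) % 64 = 1 →
    ∀ e < 16, e % 4 = 1 → (1 + 2 ^ e % 17) % 17 ≠ (3 ^ k % 17 + 8 * (3 ^ n % 17)) % 17 := by
  decide +kernel

theorem cA : ∀ k < 12, k % 4 = 0 → ∀ n < 12, n % 4 = 1 → ∀ q < 12, q % 4 = 1 → ∀ i < 36, i % 4 = 2 →
    (1 + 3 ^ k % 6643 + 2 * (3 ^ n % 6643)) % 6643 = (2 ^ i % 6643 + 8 * (3 ^ q % 6643)) % 6643 →
    i = 6 := by decide +kernel

theorem cB : ∀ k < 12, k % 4 = 0 → ∀ n < 12, n % 4 = 3 → ∀ q < 12, q % 4 = 2 → ∀ i < 36, i % 4 = 2 →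
    (1 + 3 ^ k % 6643 + 4 * (3 ^ q % 6643)) % 6643 = (2 ^ i % 6643 + 2 * (3 ^ n % 6643)) % 6643 →
    i = 6 := by decide +kernel

theorem cB2 : ∀ k < 256, k % 4 = 0 → ∀ n < 256, n % 4 = 3 → (37 + 3 ^ k % 1024) % 1024 =
    2 * (3 ^ n % 1024) % 1024 → ∀ i < 16, i % 4 = 2 →
    (37 + 3 ^ k % 4369) % 4369 ≠ (2 ^ i % 4369 + 2 * (3 ^ n % 4369)) % 4369 := by decide +kernel


theorem eqE (e n k : ℕ) (he : e % 4 = 1) (hn : n % 4 = 3) (hk : k % 4 = 2)
    (h : 1 + 2 ^ e + 8 * 3 ^ n = 3 ^ k) : e = 9 ∧ n = 3 ∧ k = 6 := by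
  have nk : n < k := (Nat.pow_lt_pow_iff_right (by norm_num : 1 < 3)).1 (by
    have : 0 < 3 ^ n := by positivity
    have : 0 < 2 ^ e := by positivity
    omega)
  rcases le_or_gt 10 e with c | c
  · have a1 := big 2 10 c
    refine absurd ?_ (cE (k % 256) (by omega) (by omega) (n % 256) (by omega) (by omega) ?_
      (e % 16) (by omega) (by omega))
    · rw [← pw 3 4369 256 (by decide +kernel), ← pw 3 4369 256 (by decide +kernel),
        ← pw 2 4369 16 (by decide +kernel)]; omega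
    · rw [← pw 3 1024 256 (by decide +kernel), ← pw 3 1024 256 (by decide +kernel)]; omega
  have a3 := big 3 3 (e := n) (by omega)
  have a4 := big 3 4 (e := k) (by omega)
  obtain rfl | rfl | rfl : e = 1 ∨ e = 5 ∨ e = 9 := by omega
  · omega
  · omega
  rcases le_or_gt 4 n with d | d
  · have := big 3 4 d; omega
  obtain rfl : n = 3 := by omega
  exact ⟨rfl, rfl, inj3 (by omega)⟩

theorem eqF (e n k : ℕ) (he : e % 4 = 1) (hn : n % 4 = 1) (hk : k % 4 = 2)
    (h : 1 + 2 ^ e = 3 ^ k + 8 * 3 ^ n) : e = 5 ∧ k = 2 ∧ n = 1 := by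
  rcases le_or_gt 6 e with c | c
  · have a1 := big 2 6 c
    refine absurd ?_ (cF (k % 16) (by omega) (by omega) (n % 16) (by omega) (by omega) ?_
      (e % 16) (by omega) (by omega))
    · rw [← pw 3 17 16 (by decide +kernel), ← pw 3 17 16 (by decide +kernel),
        ← pw 2 17 16 (by decide +kernel)]; omega
    · rw [← pw 3 64 16 (by decide +kernel), ← pw 3 64 16 (by decide +kernel)]; omega
  have b1 : 3 ^ 1 ≤ 3 ^ n := Nat.pow_le_pow_right (by norm_num) (by omega)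
  have b2 : 3 ^ 2 ≤ 3 ^ k := Nat.pow_le_pow_right (by norm_num) (by omega)
  obtain rfl | rfl : e = 1 ∨ e = 5 := by omega
  · omega
  exact ⟨rfl, inj3 (by omega), inj3 (by omega)⟩

theorem eqA (i k n q : ℕ) (hi : i % 4 = 2) (hk : k % 4 = 0) (hn : n % 4 = 1) (hq : q % 4 = 1)
    (nk : n < k) (h : 1 + 3 ^ k + 2 * 3 ^ n = 2 ^ i + 8 * 3 ^ q) :
    i = 6 ∧ k = 4 ∧ n = 1 ∧ q = 1 := by
  have i6 := cA (k % 12) (by omega) (by omega) (n % 12) (by omega) (by omega) (q % 12) (by omega)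
    (by omega) (i % 36) (by omega) (by omega) (by
      rw [← pw 3 6643 12 (by decide +kernel), ← pw 3 6643 12 (by decide +kernel),
        ← pw 3 6643 12 (by decide +kernel), ← pw 2 6643 36 (by decide +kernel)]; omega)
  have a := pw 2 27 36 (by decide +kernel) i
  rw [i6] at a
  have a3 := big 3 3 (e := k) (by omega)
  obtain ⟨rfl, rfl⟩ : n = 1 ∧ q = 1 := by
    rcases le_or_gt 3 n with c | c <;> rcases le_or_gt 3 q with d | d
    · have := big 3 3 c; have := big 3 3 d; omega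
    · have := big 3 3 c; obtain rfl : q = 1 := by omega
      omega
    · have := big 3 3 d; obtain rfl : n = 1 := by omega
      omega
    · omega
  obtain rfl : i = 6 := by
    by_contra c
    obtain ⟨u, rfl⟩ : ∃ u, i = u * 2 := ⟨i / 2, by omega⟩
    obtain ⟨v, rfl⟩ : ∃ v, k = v * 2 := ⟨k / 2, by omega⟩
    have b : 2 ^ 5 ≤ 2 ^ u := Nat.pow_le_pow_right (by norm_num) (by omega)
    rw [pow_mul, pow_mul] at h
    generalize 2 ^ u = X at *
    generalize 3 ^ v = Y at *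
    rcases le_or_gt Y X with d | d <;> nlinarith
  exact ⟨rfl, inj3 (by omega), rfl, rfl⟩

theorem eqB (i k n q : ℕ) (hi : i % 4 = 2) (hk : k % 4 = 0) (hn : n % 4 = 3) (hq : q % 4 = 2)
    (nk : n < k) (h : 1 + 3 ^ k + 4 * 3 ^ q = 2 ^ i + 2 * 3 ^ n) :
    i = 6 ∧ k = 4 ∧ n = 3 ∧ q = 2 := by
  have i6 := cB (k % 12) (by omega) (by omega) (n % 12) (by omega) (by omega) (q % 12) (by omega)
    (by omega) (i % 36) (by omega) (by omega) (by
      rw [← pw 3 6643 12 (by decide +kernel), ← pw 3 6643 12 (by decide +kernel),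
        ← pw 3 6643 12 (by decide +kernel), ← pw 2 6643 36 (by decide +kernel)]; omega)
  have a := pw 2 27 36 (by decide +kernel) i
  rw [i6] at a
  have a3 := big 3 3 (e := k) (by omega)
  have a4 := big 3 3 (e := n) (by omega)
  obtain rfl : q = 2 := by
    rcases le_or_gt 3 q with d | d
    · have := big 3 3 d; omega
    · omega
  obtain rfl : i = 6 := by
    by_contra c
    have a1 := big 2 10 (e := i) (by omega)
    refine absurd ?_ (cB2 (k % 256) (by omega) (by omega) (n % 256) (by omega) (by omega) ?_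
      (i % 16) (by omega) (by omega))
    · rw [← pw 3 4369 256 (by decide +kernel), ← pw 3 4369 256 (by decide +kernel),
        ← pw 2 4369 16 (by decide +kernel)]; omega
    · rw [← pw 3 1024 256 (by decide +kernel), ← pw 3 1024 256 (by decide +kernel)]; omega
  have a5 := big 3 4 (e := k) (by omega)
  rcases le_or_gt 4 n with d | d
  · have := big 3 4 d; omega
  obtain rfl : n = 3 := by omega
  exact ⟨rfl, inj3 (by omega), rfl, rfl⟩

theorem eqP1 (i k m l : ℕ) (h : 10 ≤ i) (hi : i % 4 = 2) (hk : k % 4 = 0) (hm : m % 4 = 1)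
    (hl : l % 4 = 1) (mk : m ≤ k) (_ : l ≤ k) : 1 + 3 ^ k + 2 * 3 ^ m ≠ 2 ^ i + 8 * 3 ^ l :=
  fun e => by have := eqA i k m l hi hk hm hl (by omega) e; omega

theorem eqP2 (i k l m : ℕ) (h : 10 ≤ i) (hi : i % 4 = 2) (hk : k % 4 = 0) (hl : l % 4 = 2)
    (hm : m % 4 = 3) (mk : m ≤ k) (_ : l ≤ k) : 1 + 3 ^ k + 4 * 3 ^ l ≠ 2 ^ i + 2 * 3 ^ m :=
  fun e => by have := eqB i k m l hi hk hm hl (by omega) e; omega

end TQ.Eqn
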