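import Cfsg.Agent.TQ.B1
import Cfsg.Agent.S0998

/-! Simple groups of order `2 ^ a * 3 * 5 * q ^ b`: the case split on `q`. -/

set_option autoImplicit false
set_option linter.unusedSectionVars false

namespace TQ
open Cfsg H8 H2 Subgroup

variable {G : Type*} [Group G] [Fintype G] [IsSimpleGroup G] {a b q : ℕ}

theorem nc_of (hN : Nat.card G = 2 ^ a * 3 * 5 * q ^ b) : ¬ IsMulCommutative G :=
  not_comm_of_card_not_prime fun h => by
    have h3 : 3 ∣ Nat.card G := ⟨2 ^ a * 5 * q ^ b, by rw [hN]; ring⟩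
    have h5 : 5 ∣ Nat.card G := ⟨2 ^ a * 3 * q ^ b, by rw [hN]; ring⟩
    have := (Nat.prime_dvd_prime_iff_eq Nat.prime_three h).1 h3
    omega

/-- orders `15 * 2 ^ n` -/
theorem q2 {n : ℕ} (hG : ¬ IsMulCommutative G) (hN : Nat.card G = 3 * 5 * 2 ^ n) : Concl G := by
  rcases Cfsg.Agent.S0998.result (G := G) (fun hc => hG (by infer_instance)) 3 2 5 n (by norm_num)
    (by norm_num) (by norm_num) (by norm_num) (by norm_num) (by norm_num) hN with
    ⟨F, _, _, k, e⟩ | ⟨F, _, _, k, ⟨e⟩⟩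
  · exact .inl ⟨F, _, _, .inl k, e⟩
  · have := (card_of_psl e).1 (by rw [k]; decide)
    rw [k] at this
    omega

theorem main0 (hq : q.Prime) (hN : Nat.card G = 2 ^ a * 3 * 5 * q ^ b)
    (H : ∀ c, ¬ IsMulCommutative G → Nat.card G = 5 * 2 ^ a * 3 ^ c → ∀ (r : G) (h : DefOne 5 r),
      h.V = ⊥ → Nat.card h.H = 4 → Full h 4 → Concl G)
    (big : 5 ≤ q → Concl G) : Concl G := by
  have hG := nc_of hN
  by_cases h2 : q = 2
  · exact q2 (n := a + b) hG (by rw [hN, h2]; ring)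
  by_cases h3 : q = 3
  · have e : Nat.card G = 5 * 2 ^ a * 3 ^ (b + 1) := by rw [hN, h3]; ring
    exact q3 hG e (H _ hG e)
  refine big ?_
  by_contra hc
  have := hq.two_le
  interval_cases q
  · exact h2 rfl
  · exact h3 rfl
  · exact absurd hq (by norm_num)

end TQ
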