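import Cfsg.Agent.TQ.Int

/-! The character of degree 6 has a one-dimensional fixed space on the Sylow 5-normalizer. -/

set_option autoImplicit false

namespace TQ
open Cfsg H8 H2 Subgroup

variable {G : Type*} [Group G] [Fintype G] {r : G}

theorem n20_sum (pf : _root_.commutator G = ⊤) (h : DefOne 5 r) (hV : h.V = ⊥)
    (he : Nat.card h.H = 4) (χ : IrrCharacter G) (hd : deg χ = 6)
    (hv : ∀ i : ZMod 5, i ≠ 0 → χ.1 (xp r i) = (1 : ℤ)) (hZ : ∀ g, ∃ a : ℤ, χ.1 g = a)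
    [Fintype (Nx r)] : ∑ g : Nx r, χ.1 g = Nat.card (Nx r) := by
  classical
  have hH : h.H = ⊤ := eq_top_of_card_eq _ (by rw [he, Nat.card_eq_fintype_card, ZMod.card_units])
  let u : (ZMod 5)ˣ := ⟨2, 3, by decide, by decide⟩
  obtain ⟨n, hn, e⟩ := exists_nu_eq h (u := u) (hH ▸ mem_top _)
  have nu1 : h.nu ⟨n, hn⟩ = u := Units.ext (h.xp_injective ((h.nu_spec _).symm.trans e))
  have nc : ∀ j : Fin 4, j ≠ 0 → n ^ j.1 ∉ Cx r := fun j c m => by
    have := (h.nu_eq_one_iff (⟨n, hn⟩ ^ j.1)).2 m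
    rw [map_pow, nu1] at this
    exact (by decide : ∀ j : Fin 4, j ≠ 0 → u ^ j.1 ≠ 1) j c this
  have cN : Nat.card (Nx r) = 20 := by rw [h.card_Nx, h.card_Cx, hV, he, card_bot]
  let f : Fin 4 × ZMod 5 → Nx r := fun a =>
    ⟨n, hn⟩ ^ a.1.1 * ⟨xp r a.2, Cx_le_Nx (xp_mem_Cx _)⟩
  have hf : Function.Bijective f := (Fintype.bijective_iff_injective_and_card _).2 ⟨fun a b c => by
    have c1 := congrArg h.nu c
    simp only [f, map_mul, map_pow, nu1,
      (h.nu_eq_one_iff ⟨xp r _, Cx_le_Nx (xp_mem_Cx _)⟩).2 (xp_mem_Cx _), mul_one] at c1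
    have c2 := (by decide : ∀ j k : Fin 4, u ^ j.1 = u ^ k.1 → j = k) _ _ c1
    simp only [f, c2, mul_right_inj, Subtype.mk.injEq] at c
    exact Prod.ext c2 (h.xp_injective c), by
      rw [← Nat.card_eq_fintype_card (α := Nx r), cN]; simp⟩
  have n4 : n ^ 4 = 1 := he ▸ pow_eq_one_of_Nx h hV hn (by simpa using nc 1 (by decide))
  obtain ⟨b, hb, b4⟩ := inv_val pf χ (z := n ^ 2) (by rw [← pow_mul, n4])
  obtain ⟨a0, ha0⟩ := hZ n
  obtain ⟨a, ha, a8⟩ := four_val pf χ n4 (by rw [val_inv ha0, ha0]) hb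
  have h3 : χ.1 (n ^ 3) = a := by
    rw [← val_inv ha, eq_inv_of_mul_eq_one_left (show n ^ 3 * n = 1 by rw [← pow_succ, n4])]
  have ba := abs_le.1 (abs_le_of_coset h χ (m := 2) hv (by rw [hd]; norm_num) hn
    (by simpa using nc 1 (by decide)) ha)
  have bb := abs_le.1 (abs_le_of_coset h χ (m := 2) hv (by rw [hd]; norm_num) (pow_mem hn 2)
    (nc 2 (by decide)) hb)
  have k : ∀ j : Fin 4, j ≠ 0 → ∑ i : ZMod 5, χ.1 (n ^ j.1 * xp r i) = 5 * χ.1 (n ^ j.1) :=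
    fun j c => by
      rw [Finset.sum_congr rfl fun i _ => val_conj χ (isConj_mul_xp h (pow_mem hn _) (nc j c) i)]
      simp
  have s : ∑ g : Nx r, χ.1 g = ((10 + 5 * b + 10 * a : ℤ) : ℂ) := by
    rw [← hf.sum_comp, Fintype.sum_prod_type, Fin.sum_univ_four]
    show ∑ i, χ.1 (n ^ (0 : Fin 4).1 * xp r i) + ∑ i, χ.1 (n ^ (1 : Fin 4).1 * xp r i) +
      ∑ i, χ.1 (n ^ (2 : Fin 4).1 * xp r i) + ∑ i, χ.1 (n ^ (3 : Fin 4).1 * xp r i) = _
    rw [k 1 (by decide), k 2 (by decide), k 3 (by decide)]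
    simp only [Fin.val_zero, pow_zero, one_mul, Fin.val_one, pow_one, Fin.val_two,
      show (3 : Fin 4).1 = 3 from rfl, ha, hb, h3]
    rw [sum_xp_const hv, xp_zero, deg_eq, hd]
    push_cast; ring
  obtain ⟨m, hm⟩ := char_classInner_nat (char_restrict (irr_isCharacter χ.2) (Nx r)) char_one
  have hm' : ∑ g : Nx r, χ.1 g = 20 * m := by
    rw [← hm, classInner, cN]; simp
  have : (10 + 5 * b + 10 * a : ℤ) = 20 * m := by exact_mod_cast s.symm.trans hm'
  rw [hd] at b4 a8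
  rw [hm', cN, show m = 1 by simp only [abs_two] at ba bb; omega]; norm_num

/-- the data needed for the lattice -/
theorem n20 (pf : _root_.commutator G = ⊤) (h : DefOne 5 r) (hV : h.V = ⊥)
    (he : Nat.card h.H = 4) (F : Full h 4)
    (hF : ∀ j, F.s j * deg (F.c j) = ![-64, -24, 6, 81] j) [Fintype (Nx r)] :
    deg (F.c 2) = 6 ∧ F.c 2 ≠ one1 G ∧ (∀ g, ∃ a : ℤ, (F.c 2).1 g = a) ∧
      ∑ g : Nx r, (F.c 2).1 g = Nat.card (Nx r) := by
  have hd : ∀ j, deg (F.c j) = ![64, 24, 6, 81] j := fun j => by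
    have := congrArg Int.natAbs (hF j)
    rw [Int.natAbs_mul, Int.natAbs_natCast, show (F.s j).natAbs = 1 by
      rcases F.s_eq j with e | e <;> simp [e], one_mul] at this
    rw [this]; clear this; revert j; decide
  have s2 : F.s 2 = 1 := by have := hF 2; rw [hd] at this; simpa using this
  obtain ⟨α, hα⟩ := full_int F 2 fun k c => by rw [hd, hd] at c; revert k; decide
  exact ⟨hd 2, F.ne_one 2, fun g => ⟨_, hα g⟩, n20_sum pf h hV he _ (hd 2)
    (fun i c => by rw [F.val' 2 c, s2]) fun g => ⟨_, hα g⟩⟩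

end TQ
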