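import Mathlib

/-! The quadratic form of minus type in dimension 6 over the field with two elements. -/

set_option autoImplicit false

namespace TQ

/-- the sum of three norm forms -/
def Q0 (v : Fin 6 → ZMod 2) : ZMod 2 :=
  v 0 * v 0 + v 0 * v 1 + v 1 * v 1 + v 2 * v 2 + v 2 * v 3 + v 3 * v 3 + v 4 * v 4 + v 4 * v 5 +
    v 5 * v 5

end TQ
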